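import Groth.Agent.KummerStepLib.Poly
import Mathlib.FieldTheory.KummerExtension
import Mathlib.FieldTheory.PurelyInseparable.Basic

/-! The ramification cases of an extension generated by a `p`-th root. -/

set_option autoImplicit false
universe u

noncomputable section

namespace KummerStepLib

open Polynomial IsLocalRing EtRamStepLib
open scoped IntermediateField

variable {p : ℕ} {A K L : Type u} [CommRing A] [IsDomain A] [IsDiscreteValuationRing A] [Field K] [Algebra A K]
  [IsFractionRing A K] [Field L] [Algebra K L]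

variable (p A K L)

/-- Unramified of degree `p`. -/
def Case2 : Prop := EtRam.IsUnramifiedExt A ((algebraMap K L).comp (algebraMap A K)) ∧ Module.finrank K L = p

/-- Totally ramified of degree `p`. -/
def Case3 : Prop := EtRam.IsTotallyRamified A ((algebraMap K L).comp (algebraMap A K)) ∧ Module.finrank K L = p

/-- Weakly unramified with purely inseparable residue extension of degree `p`. -/
def Case4 : Prop :=
  let g := (algebraMap K L).comp (algebraMap A K)
  (∃ V : ValuationSubring L, EtRam.Dominates A g V) ∧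
    (∀ V V' : ValuationSubring L, EtRam.Dominates A g V → EtRam.Dominates A g V' → V = V') ∧
    ∀ (V : ValuationSubring L) (h : EtRam.Dominates A g V),
      letI : Algebra A V := (RingHom.codRestrict g V h.1).toAlgebra
      ∀ [IsLocalHom (algebraMap A V)],
        EtRam.IsWeaklyUnramified A V ∧ IsPurelyInseparable (ResidueField A) (ResidueField V) ∧
          Module.finrank (ResidueField A) (ResidueField V) = p

variable {p A K L}

theorem kummer (hp : p.Prime) [CharZero K] {ζ : K} (hζ : IsPrimitiveRoot ζ p) {y : L} {c : K}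
    (hy : y ^ p = algebraMap K L c) (hgen : K⟮y⟯ = ⊤) :
    FiniteDimensional K L ∧ IsGalois K L ∧ (Module.finrank K L = 1 ∨ Module.finrank K L = p) := by
  have hint : IsIntegral K y := IsIntegral.of_pow hp.pos (hy ▸ isIntegral_algebraMap)
  have hfr : Module.finrank K L = (minpoly K y).natDegree := by
    rw [← IntermediateField.finrank_top', ← hgen, IntermediateField.adjoin.finrank hint]
  haveI hfd : FiniteDimensional K L := FiniteDimensional.of_finrank_pos (hfr ▸ minpoly.natDegree_pos hint)
  refine ⟨hfd, ?_⟩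
  by_cases hirr : Irreducible (X ^ p - C c)
  · have hne : (primitiveRoots p K).Nonempty := ⟨ζ, (mem_primitiveRoots hp.pos).2 hζ⟩
    have hmin : minpoly K y = X ^ p - C c :=
      (minpoly.eq_of_irreducible_of_monic hirr (by simp [hy]) (monic_X_pow_sub_C c hp.ne_zero)).symm
    have hd : Module.finrank K L = p := by rw [hfr, hmin, natDegree_X_pow_sub_C]
    haveI := NeZero.mk hp.ne_zero
    haveI := isSplittingField_X_pow_sub_C_of_root_adjoin_eq_top (hd.symm ▸ hne) (a := c) (α := y) (hd.symm ▸ hy) hgen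
    exact ⟨isGalois_of_isSplittingField_X_pow_sub_C (hd.symm ▸ hne) (hd.symm ▸ hirr) L, Or.inr hd⟩
  · obtain ⟨r, hr⟩ : ∃ r : K, r ^ p = c := by
      by_contra hall
      push Not at hall
      exact hirr (X_pow_sub_C_irreducible_of_prime hp hall)
    obtain ⟨d, hd⟩ : ∃ d : K, algebraMap K L d = y := by
      haveI := NeZero.mk hp.ne_zero
      by_cases hr0 : algebraMap K L r = 0
      · refine ⟨0, ?_⟩
        rw [← hr, map_pow, hr0, zero_pow hp.ne_zero] at hy
        rw [map_zero, eq_zero_of_pow_eq_zero hy]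
      · obtain ⟨i, -, hi⟩ := (hζ.map_of_injective (algebraMap K L).injective).eq_pow_of_pow_eq_one
          (ξ := y / algebraMap K L r) (by rw [div_pow, ← map_pow, hr, ← hy, div_self (hy ▸ (_root_.map_ne_zero _).2 (fun h0 => hr0 (by
            rw [← hr] at h0; rw [eq_zero_of_pow_eq_zero h0, map_zero])))])
        exact ⟨ζ ^ i * r, by rw [map_mul, map_pow, hi, div_mul_cancel₀ _ hr0]⟩
    have hbot : (⊥ : IntermediateField K L) = ⊤ := by
      rw [← hgen, eq_comm, IntermediateField.adjoin_simple_eq_bot_iff]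
      exact IntermediateField.mem_bot.2 ⟨d, hd⟩
    have h1 : Module.finrank K L = 1 := by
      rw [← IntermediateField.finrank_top', ← hbot, IntermediateField.finrank_bot]
    refine ⟨?_, Or.inl h1⟩
    refine IsGalois.of_card_aut_eq_finrank K L ?_
    rw [h1]
    haveI : Subsingleton (L ≃ₐ[K] L) := ⟨fun σ τ => AlgEquiv.ext fun x => by
      obtain ⟨a, rfl⟩ := IntermediateField.mem_bot.1 (hbot ▸ IntermediateField.mem_top (x := x) : x ∈ (⊥ : IntermediateField K L))
      rw [AlgEquiv.commutes, AlgEquiv.commutes]⟩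
    exact Nat.card_eq_one_iff_unique.2 ⟨inferInstance, ⟨AlgEquiv.refl⟩⟩

/-- An element whose valuation is a power of the uniformiser prime to `p`, divided by `p`. -/
theorem case3_of_val (hp : p.Prime) (hdeg : Module.finrank K L = 1 ∨ Module.finrank K L = p) {π : A} (hπ : Irreducible π)
    {z : L} {j : ℤ} (hj : ¬ (p : ℤ) ∣ j)
    (hz : ∀ (Ω : Type u) [Field Ω] (W : ValuationSubring Ω) (i : L →+* Ω),
      EtRam.Dominates A (i.comp ((algebraMap K L).comp (algebraMap A K))) W →
        W.valuation (i z) ^ p = W.valuation (i (algebraMap K L (algebraMap A K π))) ^ j) :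
    Case3 p A K L := by
  obtain ⟨a, b, hab⟩ : IsCoprime j (p : ℤ) :=
    ((Nat.prime_iff_prime_int.1 hp).coprime_iff_not_dvd.2 hj).symm
  let π' := algebraMap K L (algebraMap A K π)
  let x := z ^ a * π' ^ b
  have hval : ∀ (Ω : Type u) [Field Ω] (W : ValuationSubring Ω) (i : L →+* Ω),
      EtRam.Dominates A (i.comp ((algebraMap K L).comp (algebraMap A K))) W →
        W.valuation (i x) < 1 ∧ W.valuation (i π') = W.valuation (i x) ^ p := by
    intro Ω _ W i hW
    have h0 : W.valuation (i π') ≠ 0 := (_root_.map_ne_zero _).2 ((_root_.map_ne_zero _).2 ((_root_.map_ne_zero _).2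
      ((map_ne_zero_iff _ (IsFractionRing.injective A K)).2 hπ.ne_zero)))
    have h1 : W.valuation (i π') = W.valuation (i x) ^ p := by
      simp only [x, map_mul, map_zpow₀, mul_pow]
      rw [← zpow_natCast, ← zpow_mul, mul_comm a, zpow_mul, zpow_natCast, hz Ω W i hW, ← zpow_natCast (_ ^ b), ← zpow_mul, ← zpow_mul,
        ← zpow_add₀ h0, show j * a + b * p = 1 by linarith, zpow_one]
    have hlt : W.valuation (i π') < 1 := hW.2 π hπ.not_isUnit
    refine ⟨?_, h1⟩
    by_contra hge
    rw [h1] at hlt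
    exact not_le.2 hlt (one_le_pow₀ (not_lt.1 hge))
  have hinj : Function.Injective ((algebraMap K L).comp (algebraMap A K)) :=
    (algebraMap K L).injective.comp (IsFractionRing.injective A K)
  have hrank : Module.finrank K L = p := hdeg.resolve_left fun h1 => by
    haveI : FiniteDimensional K L := FiniteDimensional.of_finrank_pos (h1 ▸ one_pos)
    obtain ⟨r, hr⟩ : ∃ r : K, algebraMap K L r = x := by
      obtain ⟨r, hr⟩ := (finrank_eq_one_iff_of_nonzero' (1 : L) one_ne_zero).1 h1 x
      exact ⟨r, by rw [← hr, Algebra.smul_def, mul_one]⟩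
    obtain ⟨W, hW⟩ := ASWeakLib.exists_dominating _ hinj
    obtain ⟨hx1, hxp⟩ := hval L W (RingHom.id L) (by simpa using hW)
    rcases ValuationRing.isInteger_or_isInteger A r with ⟨s, hs⟩ | ⟨s, hs⟩
    · by_cases hu : IsUnit s
      · refine hx1.ne ?_
        rw [RingHom.id_apply, ← hr, ← hs]
        exact (W.valuation_eq_one_iff ⟨_, hW.1 s⟩).1 (hu.map (RingHom.codRestrict _ W.toSubring hW.1))
      · have hs0 : s ∈ Ideal.span {π} := hπ.maximalIdeal_eq ▸ hu
        obtain ⟨t, rfl⟩ := Ideal.mem_span_singleton.1 hs0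
        have h2 : W.valuation x ≤ W.valuation π' := by
          rw [← hr, ← hs, map_mul, map_mul, map_mul]
          exact mul_le_of_le_one_right zero_le ((W.valuation_le_one_iff _).2 (hW.1 t))
        rw [RingHom.id_apply, RingHom.id_apply] at hxp
        rw [hxp] at h2
        rw [RingHom.id_apply] at hx1
        have hxne : (0 : W.ValueGroup) < W.valuation x := zero_lt_iff.2 fun h0 => by
          rw [h0, zero_pow hp.ne_zero, map_eq_zero] at hxp
          exact hπ.ne_zero (hinj (by rw [map_zero]; exact hxp))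
        exact not_lt.2 h2 (pow_lt_self_of_lt_one₀ hxne hx1 hp.one_lt)
    · refine not_le.2 hx1 ?_
      rw [RingHom.id_apply, ← hr, ← inv_inv r, ← hs, map_inv₀, map_inv₀]
      have h3 : W.valuation (algebraMap K L (algebraMap A K s)) ≤ 1 := (W.valuation_le_one_iff _).2 (hW.1 s)
      rcases eq_or_ne s 0 with rfl | hs0
      · exfalso
        rw [map_zero, eq_comm, inv_eq_zero] at hs
        rw [hs, map_zero] at hr
        obtain ⟨hx1', hxp'⟩ := hval L W (RingHom.id L) (by simpa using hW)
        rw [RingHom.id_apply, RingHom.id_apply, ← hr, map_zero, zero_pow hp.ne_zero, map_eq_zero] at hxp'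
        exact hπ.ne_zero (hinj (by rw [map_zero]; exact hxp'))
      · exact (one_le_inv₀ (zero_lt_iff.2 ((_root_.map_ne_zero _).2 ((map_ne_zero_iff _ hinj).2 hs0)))).2 h3
  exact ⟨ASWeakLib.TRData.totallyRamified (x := x) (e := p) ⟨hπ, hp.pos, hrank, hval⟩, hrank⟩

/-- An element whose `p`-th power has a residue which is not a `p`-th power. -/
theorem case4_of_res (hp : p.Prime) [CharP (ResidueField A) p] (hdeg : Module.finrank K L = 1 ∨ Module.finrank K L = p)
    {π : A} (hπ : Irreducible π) {y : L} {a : A} (ha : ∀ r : A, residue A a ≠ residue A r ^ p)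
    (hy : ∀ V : ValuationSubring L, EtRam.Dominates A ((algebraMap K L).comp (algebraMap A K)) V →
      V.valuation (y ^ p - algebraMap K L (algebraMap A K a)) < 1) :
    Case4 p A K L := by
  classical
  let g := (algebraMap K L).comp (algebraMap A K)
  have hinj : Function.Injective g := (algebraMap K L).injective.comp (IsFractionRing.injective A K)
  have hg : ∀ b : A, g b = algebraMap K L (algebraMap A K b) := fun _ => rfl
  let π' := g π
  have hindep : ∀ V : ValuationSubring L, EtRam.Dominates A g V → ∀ b : Fin p → A, (∃ j, IsUnit (b j)) →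
      V.valuation (∑ j, g (b j) * y ^ (j : ℕ)) = 1 := fun V hV b hb =>
    indep_root (g := g) V hV hp (y := y) (r := a) (d := y ^ p - g a) (by ring) (hy V hV)
      (fun s hs => ha s (by rw [← map_pow, ← sub_eq_zero, ← map_sub]; exact (residue_eq_zero_iff _).2 hs)) b hb
  have hlayer : ∀ V : ValuationSubring L, EtRam.Dominates A g V → Layer V g 1 π' (fun j : Fin p => y ^ (j : ℕ)) π :=
    fun V hV => ⟨hπ, (map_ne_zero_iff _ hinj).2 hπ.ne_zero, hV.2 π hπ.not_isUnit, (pow_one _).symm, hindep V hV⟩
  have hne := ASWeakLib.exists_dominating g hinj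
  obtain ⟨V₀, hV₀⟩ := hne
  have hli : LinearIndependent K (fun j : Fin p => y ^ (j : ℕ)) := by
    refine Fintype.linearIndependent_iff.2 fun l hl0 => ?_
    by_contra hne'
    push Not at hne'
    obtain ⟨i₀, hi₀⟩ := hne'
    obtain ⟨⟨s, hs⟩, hden⟩ := IsLocalization.exist_integer_multiples_of_finite (nonZeroDivisors A) l
    choose al hal using hden
    have hs0 : algebraMap A K s ≠ 0 := (map_ne_zero_iff _ (IsFractionRing.injective A K)).2 (nonZeroDivisors.ne_zero hs)
    obtain ⟨m, hm, -⟩ := (hlayer V₀ hV₀).sum Nat.one_pos (fun _ j => al j) ⟨0, i₀, fun h0 => hi₀ (by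
      have := hal i₀
      rw [h0, map_zero, Algebra.smul_def, eq_comm, mul_eq_zero] at this
      exact this.resolve_left hs0)⟩
    have hzero : ∑ i : Fin 1, π' ^ (i : ℕ) * ∑ j : Fin p, g (al j) * y ^ (j : ℕ) = 0 := by
      have : algebraMap K L (algebraMap A K s) * (∑ i, l i • y ^ (i : ℕ)) = 0 := by rw [hl0, mul_zero]
      rw [Finset.mul_sum] at this
      rw [Fin.sum_univ_one, Fin.val_zero, pow_zero, one_mul, ← this]
      refine Finset.sum_congr rfl fun i _ => ?_
      simp only [hg, hal, Algebra.smul_def, map_mul]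
      ring
    rw [hzero, map_zero] at hm
    exact pow_ne_zero m ((_root_.map_ne_zero _).2 (hlayer V₀ hV₀).pos) hm.symm
  haveI : FiniteDimensional K L := FiniteDimensional.of_finrank_pos (by rcases hdeg with h | h <;> rw [h] <;> [exact one_pos; exact hp.pos])
  have hrank : Module.finrank K L = p := hdeg.resolve_left fun h1 => by
    have := hli.fintype_card_le_finrank
    rw [Fintype.card_fin, h1] at this
    exact not_le.2 hp.one_lt this
  haveI : Nonempty (Fin p) := ⟨⟨0, hp.pos⟩⟩
  let B := basisOfLinearIndependentOfCardEqFinrank hli (by rw [Fintype.card_fin, hrank])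
  have hcl : ∀ z : L, Cleared g π 1 π' (fun j : Fin p => y ^ (j : ℕ)) z := fun z => by
    rw [← B.sum_repr z]
    refine Finset.sum_induction _ _ (fun _ _ => Cleared.add) Cleared.zero fun i _ => ?_
    rw [Algebra.smul_def, coe_basisOfLinearIndependentOfCardEqFinrank]
    refine Cleared.smul (L := K) hπ hg _ ?_
    simpa using Cleared.monomial (g := g) (π := π) (x := π') (e := fun j : Fin p => y ^ (j : ℕ)) (0 : Fin 1) i
  have hyV : ∀ V : ValuationSubring L, EtRam.Dominates A g V → y ∈ V := fun V hV => by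
    refine (V.valuation_le_one_iff y).1 (not_lt.1 fun hlt => ?_)
    have h1 : V.valuation (y ^ p) ≤ 1 := by
      rw [show y ^ p = (y ^ p - g a) + g a by ring]
      exact V.valuation.map_add_le (hy V hV).le ((V.valuation_le_one_iff _).2 (hV.1 a))
    rw [map_pow] at h1
    exact not_le.2 (one_lt_pow₀ hlt hp.ne_zero) h1
  have hmem : ∀ V : ValuationSubring L, EtRam.Dominates A g V → ∀ z, z ∈ V ↔
      ∃ q : Fin p → A, z = ∑ j : Fin p, g (q j) * y ^ (j : ℕ) := by
    intro V hV z
    constructor
    · intro hz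
      obtain ⟨k, b, hb⟩ := hcl z
      choose q hq using (hlayer V hV).dvd_of_le_one Nat.one_pos k z b hb ((V.valuation_le_one_iff z).2 hz)
      refine ⟨q 0, mul_left_cancel₀ ((map_ne_zero_iff _ hinj).2 (pow_ne_zero k hπ.ne_zero)) ?_⟩
      rw [hb, Fin.sum_univ_one, Fin.val_zero, pow_zero, one_mul, Finset.mul_sum]
      exact Finset.sum_congr rfl fun j _ => by rw [hq 0 j, map_mul, mul_assoc]
    · rintro ⟨q, rfl⟩
      exact sum_mem fun j _ => mul_mem (hV.1 _) (pow_mem (hyV V hV) _)
  refine ⟨⟨V₀, hV₀⟩, fun V V' h h' => SetLike.ext fun z => (hmem V h z).trans (hmem V' h' z).symm, fun V hV => ?_⟩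
  letI : Algebra A V := (RingHom.codRestrict g V hV.1).toAlgebra
  intro hloc
  have hU := ASWeakLib.unif_of_layer (W := V) (F' := L) (ι := RingHom.id L) (x := π') (hlayer V hV) Nat.one_pos hcl
  refine ⟨le_antisymm (Ideal.map_le_iff_le_comap.2 fun b hb hu => hb (isUnit_of_map_unit _ b hu)) fun o ho => ?_, ?_⟩
  · have h1 : V.valuation (o : L) < 1 := (V.valuation_lt_one_iff o).1 ho
    have h2 : V.valuation ((o : L) / π') ≤ 1 := by
      rw [map_div₀]
      exact div_le_one_of_le₀ (hU.le_of_lt_one (z := (o : L)) h1) zero_le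
    rw [show o = ⟨_, (V.valuation_le_one_iff _).1 h2⟩ * algebraMap A V π from Subtype.ext (by
      show (o : L) = (o : L) / π' * π'
      rw [div_mul_cancel₀ _ hU.ne])]
    exact Ideal.mul_mem_left _ _ (Ideal.mem_map_of_mem _ (hπ.maximalIdeal_eq ▸ Ideal.mem_span_singleton_self π))
  let k := ResidueField A
  let kV := ResidueField V
  let yV : V := ⟨y, hyV V hV⟩
  let yb := residue V yV
  have hres : ∀ b : A, algebraMap k kV (residue A b) = residue V ⟨g b, hV.1 b⟩ := fun _ => rfl
  have hspan : ∀ c : kV, ∃ q : Fin p → k, ∑ j, q j • yb ^ (j : ℕ) = c := fun c => by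
    obtain ⟨w, rfl⟩ := residue_surjective c
    obtain ⟨q, hq⟩ := (hmem V hV (w : L)).1 w.2
    refine ⟨fun j => residue A (q j), ?_⟩
    rw [show w = ∑ j, (⟨g (q j), hV.1 _⟩ : V) * yV ^ (j : ℕ) from Subtype.ext (by
      rw [hq, AddSubmonoidClass.coe_finsetSum]; rfl), map_sum]
    exact Finset.sum_congr rfl fun j _ => by rw [Algebra.smul_def, hres, map_mul, map_pow]
  have hind : LinearIndependent k (fun j : Fin p => yb ^ (j : ℕ)) := by
    refine Fintype.linearIndependent_iff.2 fun l hl => ?_
    choose q hq using fun j => residue_surjective (R := A) (l j)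
    by_contra hne'
    push Not at hne'
    obtain ⟨i₀, hi₀⟩ := hne'
    have h1 := hindep V hV q ⟨i₀, by
      rw [← residue_ne_zero_iff_isUnit, hq]; exact hi₀⟩
    have h2 : residue V (∑ j, (⟨g (q j), hV.1 _⟩ : V) * yV ^ (j : ℕ)) = 0 := by
      rw [map_sum, ← hl]
      exact Finset.sum_congr rfl fun j _ => by rw [Algebra.smul_def, ← hq, hres, map_mul, map_pow]
    rw [residue_eq_zero_iff, V.valuation_lt_one_iff] at h2
    have h3 : ((∑ j, (⟨g (q j), hV.1 _⟩ : V) * yV ^ (j : ℕ) : V) : L) = ∑ j, g (q j) * y ^ (j : ℕ) := by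
      rw [AddSubmonoidClass.coe_finsetSum]; rfl
    exact (lt_of_eq_of_lt ((congrArg V.valuation h3).trans h1).symm h2).ne rfl
  haveI : Fact p.Prime := ⟨hp⟩
  haveI : CharP kV p := charP_of_injective_algebraMap (algebraMap k kV).injective p
  haveI : ExpChar k p := ExpChar.prime hp
  refine ⟨(isPurelyInseparable_iff_pow_mem k p).2 fun c => ⟨1, ?_⟩, ?_⟩
  · obtain ⟨q, rfl⟩ := hspan c
    have hyb : yb ^ p = algebraMap k kV (residue A a) := by
      rw [hres, ← map_pow, ← sub_eq_zero, ← map_sub, residue_eq_zero_iff, V.valuation_lt_one_iff]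
      exact hy V hV
    rw [pow_one, sum_pow_char]
    refine sum_mem fun j _ => ⟨q j ^ p * residue A a ^ (j : ℕ), ?_⟩
    rw [map_mul, map_pow, map_pow, ← hyb, Algebra.smul_def, mul_pow, ← pow_mul, ← pow_mul, mul_comm p]
  · rw [Module.finrank_eq_card_basis (Module.Basis.mk hind fun c _ => by
      obtain ⟨q, rfl⟩ := hspan c
      exact sum_mem fun j _ => Submodule.smul_mem _ _ (Submodule.subset_span ⟨j, rfl⟩)), Fintype.card_fin]

/-- A root of the normalised polynomial at an integral value. -/
theorem case12_of_integral [CharZero K] {ζ : A} {P : A[X]} (h : Data p A ζ P) [FiniteDimensional K L]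
    (hdeg : Module.finrank K L = 1 ∨ Module.finrank K L = p) {z : L} (hgen : K⟮z⟯ = ⊤) {a : A}
    (hz : P.eval₂ ((algebraMap K L).comp (algebraMap A K)) z = algebraMap K L (algebraMap A K a)) :
    Module.finrank K L = 1 ∨ Case2 p A K L := by
  refine hdeg.imp id fun hd => ⟨?_, hd⟩
  haveI := h.charRes
  have hne : 1 + algebraMap A K (1 - ζ) ^ p * algebraMap A K a ≠ 0 := by
    intro h0
    have h1 : (1 + (1 - ζ) ^ p * a) = 0 := IsFractionRing.injective A K (by rw [map_zero, map_add, map_one, map_mul, map_pow]; exact h0)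
    refine (maximalIdeal A).ne_top_iff_one.1 (maximalIdeal.isMaximal A).ne_top ?_
    rw [show (1 : A) = -((1 - ζ) ^ p * a) by linear_combination h1]
    exact neg_mem (Ideal.mul_mem_right _ _ (Ideal.pow_mem_of_mem _ h.sub_mem _ h.prime.pos))
  obtain ⟨hm, hPd⟩ := h.monic
  have hXp : (X ^ p - X - C (residue A a)).Separable := by
    rw [separable_def]
    refine ⟨0, -1, ?_⟩
    rw [derivative_sub, derivative_sub, derivative_X_pow, derivative_X, derivative_C, CharP.cast_eq_zero, C_0]
    ring
  refine EtRamTameLib.unramified_of_root (P - C a) (hm.sub_of_left ?_) ?_ ?_ hgen ?_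
  · rw [degree_eq_natDegree hm.ne_zero, hPd]
    exact degree_C_le.trans_lt (by exact_mod_cast h.prime.pos)
  · rw [Polynomial.map_sub, h.map_residue, map_C]; exact hXp
  · rw [Polynomial.map_sub, map_C]
    exact h.charZero_sep (algebraMap A K) (IsFractionRing.injective A K) _ hne
  · rw [eval₂_sub, eval₂_C, hz]; exact sub_self _

/-- Dominant term. -/
theorem dominant {ζ : A} {P : A[X]} (h : Data p A ζ P) {Ω : Type u} [Field Ω] (W : ValuationSubring Ω) {f : A →+* Ω}
    (hf : ∀ a, f a ∈ W) {z ξ : Ω} (hz : P.eval₂ f z = ξ) (hξ : 1 < W.valuation ξ) :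
    W.valuation z ^ p = W.valuation ξ ∧ 1 < W.valuation z ∧ W.valuation (z ^ p - ξ) ≤ W.valuation z ^ (p - 1) := by
  obtain ⟨hm, hd⟩ := h.monic
  have hsum : ξ = ∑ i ∈ Finset.range p, f (P.coeff i) * z ^ i + z ^ p := by
    rw [← hz, eval₂_eq_sum_range, hd, Finset.sum_range_succ, show P.coeff p = 1 from hd ▸ hm.coeff_natDegree, map_one, one_mul]
  have h1 : 1 < W.valuation z := by
    by_contra hle
    push Not at hle
    refine not_le.2 hξ ?_
    rw [hsum]
    refine W.valuation.map_add_le (Valuation.map_sum_le _ fun i _ => ?_) (by rw [map_pow]; exact pow_le_one₀ zero_le hle)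
    rw [map_mul, map_pow]
    exact mul_le_one' ((W.valuation_le_one_iff _).2 (hf _)) (pow_le_one₀ zero_le hle)
  have hrest : W.valuation (∑ i ∈ Finset.range p, f (P.coeff i) * z ^ i) ≤ W.valuation z ^ (p - 1) := by
    refine Valuation.map_sum_le _ fun i hi => ?_
    rw [map_mul, map_pow]
    refine (mul_le_of_le_one_left zero_le ((W.valuation_le_one_iff _).2 (hf _))).trans ?_
    exact pow_le_pow_right₀ h1.le (by have := Finset.mem_range.1 hi; omega)
  refine ⟨?_, h1, ?_⟩
  · rw [hsum, Valuation.map_add_eq_of_lt_right, map_pow]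
    rw [map_pow]
    exact lt_of_le_of_lt hrest (pow_lt_pow_right₀ h1 (Nat.sub_one_lt h.prime.ne_zero))
  · rw [hsum, show z ^ p - (∑ i ∈ Finset.range p, f (P.coeff i) * z ^ i + z ^ p) = -∑ i ∈ Finset.range p, f (P.coeff i) * z ^ i by ring,
      Valuation.map_neg]
    exact hrest

end KummerStepLib
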