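import Groth.Agent.KummerStepLib.Cases

/-! Every extension by a `p`-th root falls under one of the four cases. -/

set_option autoImplicit false
universe u

noncomputable section

namespace KummerStepLib

open Polynomial IsLocalRing
open scoped IntermediateField

variable {p : ℕ} {A K L : Type u} [CommRing A] [IsDomain A] [IsDiscreteValuationRing A] [Field K] [Algebra A K]
  [IsFractionRing A K] [Field L] [Algebra K L]

variable (p A K L)

/-- One of the four cases. -/
def Cases : Prop := Module.finrank K L = 1 ∨ Case2 p A K L ∨ Case3 p A K L ∨ Case4 p A K L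

variable {p A K L}

omit [IsFractionRing A K] in
theorem eval₂_map' (P : A[X]) (z : L) : P.eval₂ ((algebraMap K L).comp (algebraMap A K)) z = (P.map (algebraMap A K)).eval₂ (algebraMap K L) z :=
  (eval₂_map _ _ _).symm

theorem case3_of_pole {ζ : A} {P : A[X]} (h : Data p A ζ P) (hdeg : Module.finrank K L = 1 ∨ Module.finrank K L = p)
    {π : A} (hπ : Irreducible π) {z : L} {ξ : K} (hz : P.eval₂ ((algebraMap K L).comp (algebraMap A K)) z = algebraMap K L ξ)
    {n : ℕ} {a : A} (hn : 0 < n) (hpn : ¬ p ∣ n) (ha : IsUnit a) (hξ : ξ * algebraMap A K π ^ n = algebraMap A K a) :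
    Case3 p A K L := by
  refine case3_of_val h.prime hdeg hπ (z := z) (j := -(n : ℤ)) (by rw [dvd_neg, Int.natCast_dvd_natCast]; exact hpn) fun Ω _ W i hW => ?_
  let f := i.comp ((algebraMap K L).comp (algebraMap A K))
  set q := W.valuation (i (algebraMap K L (algebraMap A K π))) with hq
  have hq1 : q < 1 := hW.2 π hπ.not_isUnit
  have hq0 : 0 < q := zero_lt_iff.2 ((_root_.map_ne_zero _).2 ((_root_.map_ne_zero _).2 ((_root_.map_ne_zero _).2
    ((map_ne_zero_iff _ (IsFractionRing.injective A K)).2 hπ.ne_zero))))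
  have hva : W.valuation (f a) = 1 := (W.valuation_eq_one_iff ⟨f a, hW.1 a⟩).1 (ha.map (f.codRestrict W.toSubring hW.1))
  have hv : W.valuation (i (algebraMap K L ξ)) * q ^ n = 1 := by
    rw [hq, ← map_pow, ← map_mul, ← map_pow, ← map_mul, ← map_pow, ← map_mul, hξ]; exact hva
  have hξ1 : 1 < W.valuation (i (algebraMap K L ξ)) := by
    by_contra hle
    exact (mul_lt_one_of_nonneg_of_lt_one_right (not_lt.1 hle) zero_le (pow_lt_one₀ zero_le hq1 hn.ne')).ne hv
  obtain ⟨h1, -, -⟩ := dominant h W (f := f) (fun b => hW.1 b) (z := i z) (ξ := i (algebraMap K L ξ))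
    (by rw [← hz, Polynomial.hom_eval₂]) hξ1
  rw [h1, zpow_neg, zpow_natCast]
  exact eq_inv_of_mul_eq_one_left hv

theorem case4_of_pole {ζ : A} {P : A[X]} (h : Data p A ζ P) (hdeg : Module.finrank K L = 1 ∨ Module.finrank K L = p)
    {π : A} (hπ : Irreducible π) {z : L} {ξ : K} (hz : P.eval₂ ((algebraMap K L).comp (algebraMap A K)) z = algebraMap K L ξ)
    {n : ℕ} {a : A} (hn : 0 < n) (hpn : p ∣ n) (ha : ∀ r : A, residue A a ≠ residue A r ^ p)
    (hξ : ξ * algebraMap A K π ^ n = algebraMap A K a) : Case4 p A K L := by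
  haveI := h.charRes
  obtain ⟨m, rfl⟩ := hpn
  let g := (algebraMap K L).comp (algebraMap A K)
  refine case4_of_res h.prime hdeg hπ (y := z * g π ^ m) ha fun V hV => ?_
  have hq1 : V.valuation (g π) < 1 := hV.2 π hπ.not_isUnit
  have hau : IsUnit a := by
    by_contra hu
    exact ha 0 (by rw [map_zero, zero_pow h.prime.ne_zero]; exact (residue_eq_zero_iff a).2 hu)
  have hva : V.valuation (g a) = 1 := (V.valuation_eq_one_iff ⟨g a, hV.1 a⟩).1 (hau.map (g.codRestrict V.toSubring hV.1))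
  have hga : g a = algebraMap K L ξ * g π ^ (p * m) := by
    show algebraMap K L (algebraMap A K a) = _
    rw [← hξ, map_mul, map_pow]; rfl
  have hv : V.valuation (algebraMap K L ξ) * V.valuation (g π) ^ (p * m) = 1 := by
    rw [← map_pow, ← map_mul, ← hga, hva]
  have hξ1 : 1 < V.valuation (algebraMap K L ξ) := by
    by_contra hle
    exact (mul_lt_one_of_nonneg_of_lt_one_right (not_lt.1 hle) zero_le (pow_lt_one₀ zero_le hq1 hn.ne')).ne hv
  obtain ⟨h1, h2, h3⟩ := dominant h V (f := g) (fun b => hV.1 b) hz hξ1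
  rw [show algebraMap K L (algebraMap A K a) = g a from rfl, hga, mul_pow, ← pow_mul, mul_comm m p, ← sub_mul, map_mul, map_pow]
  refine lt_of_le_of_lt (mul_le_mul_left h3 _) (lt_of_lt_of_eq ?_ hv)
  refine mul_lt_mul_of_pos_right (lt_of_lt_of_eq (pow_lt_pow_right₀ h2 (Nat.sub_one_lt h.prime.ne_zero)) h1) ?_
  exact pow_pos (zero_lt_iff.2 ((_root_.map_ne_zero _).2 ((map_ne_zero_iff g ((algebraMap K L).injective.comp (IsFractionRing.injective A K) : Function.Injective g)).2 hπ.ne_zero))) _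

theorem gen_of_mem {z z' : L} (hgen : K⟮z⟯ = ⊤) (h : z ∈ K⟮z'⟯) : K⟮z'⟯ = ⊤ :=
  top_unique (hgen ▸ IntermediateField.adjoin_simple_le_iff.2 h)

set_option maxHeartbeats 800000 in
theorem cases_of_lt [CharZero K] [FiniteDimensional K L] {ζ : A} {P : A[X]} (h : Data p A ζ P)
    (hdeg : Module.finrank K L = 1 ∨ Module.finrank K L = p) {π : A} (hπ : Irreducible π) {u : Aˣ} {e : ℕ}
    (hw : 1 - ζ = u * π ^ e) : ∀ (n : ℕ), n < p * e → ∀ (z : L) (ξ : K) (a : A), K⟮z⟯ = ⊤ →
      P.eval₂ ((algebraMap K L).comp (algebraMap A K)) z = algebraMap K L ξ →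
      ξ * algebraMap A K π ^ n = algebraMap A K a → Cases p A K L := by
  haveI := h.charRes
  intro n
  induction n using Nat.strong_induction_on with
  | _ n ih =>
  intro hne z ξ a hgen hz hξ
  have hπK : algebraMap A K π ≠ 0 := (map_ne_zero_iff _ (IsFractionRing.injective A K)).2 hπ.ne_zero
  rcases Nat.eq_zero_or_pos n with rfl | hn
  · rw [pow_zero, mul_one] at hξ
    rcases case12_of_integral h hdeg hgen (a := a) (by rw [hz, hξ]) with h1 | h1
    exacts [Or.inl h1, Or.inr (Or.inl h1)]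
  obtain ⟨n, rfl⟩ := Nat.exists_eq_succ_of_ne_zero hn.ne'
  by_cases ha : IsUnit a
  swap
  · have ha' : a ∈ Ideal.span {π} := hπ.maximalIdeal_eq ▸ ha
    obtain ⟨b, rfl⟩ := Ideal.mem_span_singleton.1 ha'
    refine ih n (Nat.lt_succ_self n) (by omega) z ξ b hgen hz (mul_right_cancel₀ hπK ?_)
    rw [mul_assoc, ← pow_succ, hξ, map_mul, mul_comm]
  by_cases hpn : p ∣ n + 1
  swap
  · exact Or.inr (Or.inr (Or.inl (case3_of_pole h hdeg hπ hz hn hpn ha hξ)))
  by_cases hr : ∀ r : A, residue A a ≠ residue A r ^ p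
  · exact Or.inr (Or.inr (Or.inr (case4_of_pole h hdeg hπ hz hn hpn hr hξ)))
  push Not at hr
  obtain ⟨r, hr⟩ := hr
  obtain ⟨m, hm⟩ := hpn
  have hm0 : 0 < m := Nat.pos_of_ne_zero fun h0 => by simp [h0] at hm
  have hme : m < e := Nat.lt_of_mul_lt_mul_left (a := p) (hm ▸ hne)
  obtain ⟨k, hk⟩ := Nat.exists_eq_add_of_lt hme
  let R := ∑ i ∈ Finset.range p, P.coeff i * r ^ i * π ^ ((p - i) * m)
  have hR : R ∈ maximalIdeal A := sum_mem fun i hi => Ideal.mul_mem_left _ _ (Ideal.pow_mem_of_mem _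
    (hπ.maximalIdeal_eq ▸ Ideal.mem_span_singleton_self π) _
    (Nat.mul_pos (Nat.sub_pos_of_lt (Finset.mem_range.1 hi)) hm0))
  have hnum : a - r ^ p - R ∈ Ideal.span {π} := by
    rw [← hπ.maximalIdeal_eq, ← residue_eq_zero_iff, map_sub, map_sub, map_pow, (residue_eq_zero_iff R).2 hR, hr, sub_self, sub_zero]
  obtain ⟨b', hb'⟩ := Ideal.mem_span_singleton.1 hnum
  let d : A := 1 + u * r * π ^ (k + 1)
  have hd : IsUnit d := by
    by_contra hu
    refine (maximalIdeal A).ne_top_iff_one.1 (maximalIdeal.isMaximal A).ne_top ?_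
    rw [show (1 : A) = d - u * r * π ^ k * π by simp only [d]; rw [pow_succ]; ring]
    exact sub_mem hu (Ideal.mul_mem_left _ _ (hπ.maximalIdeal_eq ▸ Ideal.mem_span_singleton_self π))
  set s : K := algebraMap A K r / algebraMap A K π ^ m with hs
  set w : K := algebraMap A K (1 - ζ) with hwdef
  have hw0 : w ≠ 0 := (map_ne_zero_iff _ (IsFractionRing.injective A K)).2 h.w_ne
  have hd0 : algebraMap A K d ≠ 0 := (hd.map (algebraMap A K)).ne_zero
  have hdK : algebraMap A K d = 1 + w * s := by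
    simp only [d, hwdef, hw, hs, show e = m + (k + 1) by omega, map_add, map_one, map_mul, map_pow, pow_add]
    field_simp
  set Ps := (P.map (algebraMap A K)).eval s with hPs
  have hdp : algebraMap A K d ^ p = 1 + w ^ p * Ps := by
    rw [hdK, hPs, eval_map, h.eval_eq (algebraMap A K) s]; ring
  have hPsval : Ps * algebraMap A K π ^ (n + 1) = algebraMap A K (r ^ p + R) := by
    obtain ⟨hmon, hdeg'⟩ := h.monic
    rw [hm, hPs, eval_map, eval₂_eq_sum_range, hdeg', Finset.sum_range_succ, show P.coeff p = 1 from hdeg' ▸ hmon.coeff_natDegree,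
      map_one, one_mul, add_mul, map_add, add_comm]
    refine congrArg₂ (· + ·) ?_ ?_
    · rw [hs, div_pow, ← pow_mul, mul_comm m p, div_mul_cancel₀ _ (pow_ne_zero _ hπK), map_pow]
    · rw [Finset.sum_mul, map_sum]
      refine Finset.sum_congr rfl fun i hi => ?_
      have hi' := Finset.mem_range.1 hi
      rw [hs, div_pow, map_mul, map_mul, map_pow, map_pow, ← pow_mul, show p * m = m * i + (p - i) * m by
        rw [mul_comm m i, ← add_mul, Nat.add_sub_cancel' hi'.le], pow_add]
      field_simp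
  set ξ' : K := (ξ - Ps) / algebraMap A K d ^ p with hξ'
  set y : L := 1 + algebraMap K L w * z with hy
  set z' : L := (y / algebraMap K L (algebraMap A K d) - 1) / algebraMap K L w with hz'
  have hwL : algebraMap K L w ≠ 0 := (_root_.map_ne_zero _).2 hw0
  have hdL : algebraMap K L (algebraMap A K d) ≠ 0 := (_root_.map_ne_zero _).2 hd0
  have hzeq : P.eval₂ ((algebraMap K L).comp (algebraMap A K)) z' = algebraMap K L ξ' := by
    have h1 := h.eval_eq ((algebraMap K L).comp (algebraMap A K)) z'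
    have h2 := h.eval_eq ((algebraMap K L).comp (algebraMap A K)) z
    rw [hz] at h2
    simp only [RingHom.comp_apply, ← hwdef, ← hy] at h1 h2
    have h3 : 1 + algebraMap K L w * z' = y / algebraMap K L (algebraMap A K d) := by
      rw [hz', mul_div_cancel₀ _ hwL]; ring
    refine mul_left_cancel₀ (pow_ne_zero p hwL) ?_
    have h5 : y ^ p = algebraMap K L (1 + w ^ p * ξ) := by rw [map_add, map_one, map_mul, map_pow, h2]; ring
    have h6 := congrArg (algebraMap K L) hdp
    rw [map_pow] at h6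
    rw [h1, h3, div_pow, h5, hξ', map_div₀, map_pow, map_sub, h6]
    have h7 : algebraMap K L (1 + w ^ p * Ps) ≠ 0 := by rw [← h6]; exact pow_ne_zero _ hdL
    simp only [map_add, map_one, map_mul, map_pow] at h7 ⊢
    field_simp
    ring
  have hgen' : K⟮z'⟯ = ⊤ := by
    refine gen_of_mem hgen ?_
    have h4 : z = (algebraMap K L (algebraMap A K d) * (1 + algebraMap K L w * z') - 1) / algebraMap K L w := by
      rw [hz', mul_div_cancel₀ _ hwL, hy]
      field_simp
      ring
    rw [h4]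
    exact div_mem (sub_mem (mul_mem (IntermediateField.algebraMap_mem _ _) (add_mem (one_mem _)
      (mul_mem (IntermediateField.algebraMap_mem _ _) (IntermediateField.mem_adjoin_simple_self _ _)))) (one_mem _))
      (IntermediateField.algebraMap_mem _ _)
  refine ih n (Nat.lt_succ_self n) (by omega) z' ξ' (b' * ((hd.unit ^ p)⁻¹ : Aˣ)) hgen' hzeq (mul_right_cancel₀ hπK ?_)
  rw [mul_assoc, ← pow_succ, hξ', div_mul_eq_mul_div, sub_mul, hξ, hPsval, ← map_sub, show a - (r ^ p + R) = π * b' by rw [← hb']; ring,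
    map_mul, map_mul, map_units_inv, Units.val_pow_eq_pow_val, IsUnit.unit_spec, map_pow]
  ring

theorem exists_unit_zpow {π : A} (hπ : Irreducible π) {c : K} (hc : c ≠ 0) :
    ∃ (j : ℤ) (v : Aˣ), c = algebraMap A K π ^ j * algebraMap A K v := by
  obtain ⟨a, b, hb, rfl⟩ := IsFractionRing.div_surjective A c
  have ha : a ≠ 0 := fun h0 => hc (by rw [h0, map_zero, zero_div])
  obtain ⟨i, u, rfl⟩ := IsDiscreteValuationRing.eq_unit_mul_pow_irreducible ha hπ
  obtain ⟨k, v, rfl⟩ := IsDiscreteValuationRing.eq_unit_mul_pow_irreducible (nonZeroDivisors.ne_zero hb) hπ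
  refine ⟨(i : ℤ) - k, u * v⁻¹, ?_⟩
  rw [zpow_sub₀ ((map_ne_zero_iff _ (IsFractionRing.injective A K)).2 hπ.ne_zero), zpow_natCast, zpow_natCast, Units.val_mul,
    map_mul, map_mul, map_mul, map_pow, map_pow, map_units_inv, div_eq_mul_inv, div_eq_mul_inv, mul_inv]
  ring

set_option maxHeartbeats 800000 in
theorem classify [CharZero K] [FiniteDimensional K L] {ζ : A} {P : A[X]} (h : Data p A ζ P)
    (hdeg : Module.finrank K L = 1 ∨ Module.finrank K L = p) {π : A} (hπ : Irreducible π) {y : L} {c : K}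
    (hy : y ^ p = algebraMap K L c) (hgen : K⟮y⟯ = ⊤) : Cases p A K L := by
  haveI := h.charRes
  have hπK : algebraMap A K π ≠ 0 := (map_ne_zero_iff _ (IsFractionRing.injective A K)).2 hπ.ne_zero
  rcases eq_or_ne c 0 with rfl | hc
  · refine Or.inl ?_
    rw [map_zero, pow_eq_zero_iff h.prime.ne_zero] at hy
    rw [hy, IntermediateField.adjoin_zero] at hgen
    rw [← IntermediateField.finrank_top', ← hgen, IntermediateField.finrank_bot]
  obtain ⟨j, v, hv⟩ := exists_unit_zpow hπ hc
  by_cases hj : (p : ℤ) ∣ j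
  swap
  · refine Or.inr (Or.inr (Or.inl (case3_of_val h.prime hdeg hπ (z := y) hj fun Ω _ W i hW => ?_)))
    have h1 : W.valuation ((i.comp ((algebraMap K L).comp (algebraMap A K))) v) = 1 :=
      (W.valuation_eq_one_iff ⟨_, hW.1 v⟩).1 (v.isUnit.map (RingHom.codRestrict (i.comp ((algebraMap K L).comp (algebraMap A K))) W.toSubring hW.1))
    rw [← map_pow, ← map_pow, hy, hv, map_mul, map_mul, map_mul, map_zpow₀, map_zpow₀, map_zpow₀]
    rw [RingHom.comp_apply, RingHom.comp_apply] at h1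
    rw [h1, mul_one]
  obtain ⟨l, rfl⟩ := hj
  set y₁ : L := y / algebraMap K L (algebraMap A K π ^ l) with hy₁
  have hπl : algebraMap K L (algebraMap A K π ^ l) ≠ 0 := (_root_.map_ne_zero _).2 (zpow_ne_zero _ hπK)
  have hy1 : y₁ ^ p = algebraMap K L (algebraMap A K v) := by
    rw [hy₁, div_pow, hy, hv, map_mul, ← map_pow, ← zpow_natCast (algebraMap A K π ^ l) p, ← zpow_mul, mul_comm l,
      mul_div_cancel_left₀ _ ((_root_.map_ne_zero _).2 (zpow_ne_zero _ hπK))]
  by_cases hr : ∀ r : A, residue A (v : A) ≠ residue A r ^ p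
  · refine Or.inr (Or.inr (Or.inr (case4_of_res h.prime hdeg hπ (y := y₁) hr fun V hV => ?_)))
    rw [hy1, sub_self, map_zero]; exact zero_lt_one
  push Not at hr
  obtain ⟨r, hr⟩ := hr
  have hru : IsUnit r := by
    by_contra hu
    have h0 : residue A (v : A) = 0 := by rw [hr, (residue_eq_zero_iff r).2 hu, zero_pow h.prime.ne_zero]
    exact (residue_ne_zero_iff_isUnit (v : A)).2 v.isUnit h0
  have hrK : algebraMap A K r ≠ 0 := (hru.map (algebraMap A K)).ne_zero
  obtain ⟨c₂, hc₂⟩ : ∃ c₂ : A, (v : A) = r ^ p * c₂ := ⟨v * ((hru.unit ^ p)⁻¹ : Aˣ), by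
    rw [mul_left_comm, show r ^ p = ((hru.unit ^ p : Aˣ) : A) by rw [Units.val_pow_eq_pow_val, IsUnit.unit_spec], Units.mul_inv, mul_one]⟩
  have hb : c₂ - 1 ∈ Ideal.span {π} := by
    rw [← hπ.maximalIdeal_eq, ← residue_eq_zero_iff, map_sub, map_one, sub_eq_zero]
    have h1 := congrArg (residue A) hc₂
    rw [map_mul, map_pow, ← hr] at h1
    exact mul_left_cancel₀ ((residue_ne_zero_iff_isUnit (v : A)).2 v.isUnit) (h1.symm.trans (mul_one _).symm)
  obtain ⟨b, hb⟩ := Ideal.mem_span_singleton.1 hb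
  obtain ⟨e, u, hw⟩ := IsDiscreteValuationRing.eq_unit_mul_pow_irreducible h.w_ne hπ
  have he : 0 < e := Nat.pos_of_ne_zero fun h0 => by
    rw [h0, pow_zero, mul_one] at hw
    exact h.sub_mem (hw ▸ u.isUnit)
  set w : K := algebraMap A K (1 - ζ) with hwdef
  have hw0 : w ≠ 0 := (map_ne_zero_iff _ (IsFractionRing.injective A K)).2 h.w_ne
  have hwL : algebraMap K L w ≠ 0 := (_root_.map_ne_zero _).2 hw0
  have hrL : algebraMap K L (algebraMap A K r) ≠ 0 := (_root_.map_ne_zero _).2 hrK
  set z : L := (y₁ / algebraMap K L (algebraMap A K r) - 1) / algebraMap K L w with hz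
  set ξ : K := algebraMap A K (π * b) / w ^ p with hξ
  have hzeq : P.eval₂ ((algebraMap K L).comp (algebraMap A K)) z = algebraMap K L ξ := by
    have h1 := h.eval_eq ((algebraMap K L).comp (algebraMap A K)) z
    simp only [RingHom.comp_apply, ← hwdef] at h1
    refine mul_left_cancel₀ (pow_ne_zero p hwL) ?_
    rw [h1, show 1 + algebraMap K L w * z = y₁ / algebraMap K L (algebraMap A K r) by rw [hz, mul_div_cancel₀ _ hwL]; ring,
      div_pow, hy1, hc₂, hξ, map_div₀, map_pow (algebraMap K L) w p, mul_div_cancel₀ _ (pow_ne_zero p hwL), ← hb]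
    simp only [map_mul, map_pow, map_sub, map_one]
    rw [mul_div_cancel_left₀ _ (pow_ne_zero _ hrL)]
  have hgen' : K⟮z⟯ = ⊤ := by
    refine gen_of_mem hgen ?_
    have h4 : y = algebraMap K L (algebraMap A K π ^ l) * (algebraMap K L (algebraMap A K r) * (1 + algebraMap K L w * z)) := by
      rw [hz, mul_div_cancel₀ _ hwL, add_sub_cancel, mul_div_cancel₀ _ hrL, hy₁, mul_div_cancel₀ _ hπl]
    rw [h4]
    exact mul_mem (IntermediateField.algebraMap_mem _ _) (mul_mem (IntermediateField.algebraMap_mem _ _) (add_mem (one_mem _)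
      (mul_mem (IntermediateField.algebraMap_mem _ _) (IntermediateField.mem_adjoin_simple_self _ _))))
  obtain ⟨N, hN⟩ := Nat.exists_eq_succ_of_ne_zero (Nat.mul_pos h.prime.pos he).ne'
  refine cases_of_lt h hdeg hπ hw N (by omega) z ξ (b * ((u ^ p)⁻¹ : Aˣ)) hgen' hzeq ?_
  rw [hξ, hwdef, hw, map_mul, map_mul, map_mul, map_units_inv, Units.val_pow_eq_pow_val, map_pow, map_pow, mul_pow, ← pow_mul, mul_comm e p, hN,
    pow_succ]
  field_simp

end KummerStepLib
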