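import Groth.Agent.EtRamTameLib.Root
import Mathlib.RingTheory.Polynomial.Cyclotomic.Roots
import Mathlib.FieldTheory.KummerPolynomial
import Mathlib.FieldTheory.Normal.Basic

/-! The normalised Kummer polynomial of degree `p` in mixed characteristic. -/

set_option autoImplicit false
universe u

noncomputable section

namespace KummerStepLib

open Polynomial IsLocalRing

variable (p : ℕ) (A : Type u) [CommRing A] [IsDomain A] [IsDiscreteValuationRing A]

/-- The data: a primitive root of unity and the normalised polynomial. -/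
structure Data (ζ : A) (P : A[X]) : Prop where
  prime : p.Prime
  charRes : CharP (ResidueField A) p
  root : ζ ^ p = 1
  ne : ζ ≠ 1
  eq : C ((1 - ζ) ^ p) * P = (1 + C (1 - ζ) * X) ^ p - 1

variable {p A} {ζ : A} {P : A[X]}

theorem Data.eval_eq (h : Data p A ζ P) {R : Type u} [CommRing R] (f : A →+* R) (t : R) :
    f (1 - ζ) ^ p * P.eval₂ f t = (1 + f (1 - ζ) * t) ^ p - 1 := by
  have h1 := congrArg (Polynomial.eval₂ f t) h.eq
  simp only [eval₂_mul, eval₂_C, eval₂_sub, eval₂_pow, eval₂_add, eval₂_one, eval₂_X, map_pow] at h1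
  exact h1

theorem Data.sub_mem (h : Data p A ζ P) : 1 - ζ ∈ maximalIdeal A := by
  haveI := h.charRes
  haveI := Fact.mk h.prime
  rw [← residue_eq_zero_iff, map_sub, map_one, sub_eq_zero]
  have h1 : residue A ζ ^ p = 1 := by rw [← map_pow, h.root, map_one]
  have h2 : (1 - residue A ζ) ^ p = 0 := by rw [sub_pow_char, one_pow, h1, sub_self]
  exact (sub_eq_zero.1 (pow_eq_zero_iff h.prime.ne_zero |>.1 h2))

theorem Data.w_ne (h : Data p A ζ P) : 1 - ζ ≠ 0 := sub_ne_zero.2 (Ne.symm h.ne)

theorem Data.linear (h : Data p A ζ P) :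
    (1 + C (1 - ζ) * X : A[X]).natDegree = 1 ∧ (1 + C (1 - ζ) * X : A[X]).leadingCoeff = 1 - ζ := by
  rw [show (1 + C (1 - ζ) * X : A[X]) = C (1 - ζ) * X + C 1 by rw [C_1]; ring]
  exact ⟨natDegree_linear h.w_ne, leadingCoeff_linear h.w_ne⟩

theorem Data.monic (h : Data p A ζ P) : P.Monic ∧ P.natDegree = p := by
  obtain ⟨hd, hl⟩ := h.linear
  have hp := h.prime.pos
  have hdeg : ((1 + C (1 - ζ) * X) ^ p : A[X]).natDegree = p := by rw [natDegree_pow, hd, mul_one]
  have h1 : (C ((1 - ζ) ^ p) * P).natDegree = p := by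
    rw [h.eq, natDegree_sub_eq_left_of_natDegree_lt (by rw [natDegree_one, hdeg]; exact hp), hdeg]
  have h2 : (C ((1 - ζ) ^ p) * P).leadingCoeff = (1 - ζ) ^ p := by
    rw [h.eq, leadingCoeff_sub_of_degree_lt (degree_lt_degree (by rw [natDegree_one, hdeg]; exact hp)), leadingCoeff_pow, hl]
  have hw := pow_ne_zero p h.w_ne
  refine ⟨?_, by rwa [natDegree_C_mul hw] at h1⟩
  rw [leadingCoeff_mul, leadingCoeff_C] at h2
  exact mul_left_cancel₀ hw (h2.trans (mul_one _).symm)

theorem Data.map_residue (h : Data p A ζ P) : P.map (residue A) = X ^ p - X := by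
  haveI := h.charRes
  haveI := Fact.mk h.prime
  have hres : residue A ζ = 1 := by
    have := (residue_eq_zero_iff _).2 h.sub_mem
    rw [map_sub, map_one, sub_eq_zero] at this
    exact this.symm
  have hroot : ∀ i : ℕ, (P.map (residue A)).eval (-(i : ResidueField A)) = 0 := fun i => by
    have h1 := h.eval_eq (RingHom.id A) (-∑ k ∈ Finset.range i, ζ ^ k)
    have hg : (1 - ζ) * ∑ k ∈ Finset.range i, ζ ^ k = 1 - ζ ^ i := by
      linear_combination (-1 : A) * geom_sum_mul ζ i
    rw [RingHom.id_apply, show (1 + (1 - ζ) * -∑ k ∈ Finset.range i, ζ ^ k) = ζ ^ i by linear_combination -hg,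
      ← pow_mul, mul_comm i p, pow_mul, h.root, one_pow, sub_self, mul_eq_zero] at h1
    have h2 := congrArg (residue A) (h1.resolve_left (pow_ne_zero _ h.w_ne))
    rw [hom_eval₂, map_zero, RingHom.comp_id, map_neg, map_sum] at h2
    simp only [map_pow, hres, one_pow, Finset.sum_const, Finset.card_range, nsmul_eq_mul, mul_one] at h2
    rw [eval_map]; exact h2
  obtain ⟨hm, hd⟩ := h.monic
  have hXd : (X ^ p - X : (ResidueField A)[X]).natDegree = p := FiniteField.X_pow_card_sub_X_natDegree_eq _ h.prime.one_lt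
  have hXm : (X ^ p - X : (ResidueField A)[X]).Monic := monic_X_pow_sub (by rw [degree_X]; exact_mod_cast h.prime.one_lt)
  rw [← sub_eq_zero]
  by_contra hne
  have hlt : (P.map (residue A) - (X ^ p - X)).natDegree < p := by
    have := degree_sub_lt (p := P.map (residue A)) (q := (X ^ p - X))
      (by rw [degree_eq_natDegree (hm.map _).ne_zero, degree_eq_natDegree hXm.ne_zero, hm.natDegree_map, hd, hXd])
      (hm.map _).ne_zero (by rw [(hm.map _).leadingCoeff, hXm.leadingCoeff])
    rw [natDegree_lt_iff_degree_lt hne]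
    rw [degree_eq_natDegree (hm.map _).ne_zero, hm.natDegree_map, hd] at this
    exact this
  refine not_le.2 hlt ?_
  classical
  let S := (Finset.range p).image fun i : ℕ => -(i : ResidueField A)
  have hcard : S.card = p := by
    rw [Finset.card_image_of_injOn, Finset.card_range]
    intro i hi j hj hij
    exact CharP.natCast_injOn_Iio (ResidueField A) p (Finset.mem_range.1 hi) (Finset.mem_range.1 hj) (neg_injective hij)
  calc p = S.card := hcard.symm
    _ ≤ _ := card_le_degree_of_subset_roots fun x hx => by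
      obtain ⟨i, -, rfl⟩ := Finset.mem_image.1 (Finset.mem_val ▸ hx : x ∈ S)
      refine (mem_roots hne).2 ?_
      show eval _ _ = 0
      have hfix := map_intCast (frobenius (ResidueField A) p) (-(i : ℤ))
      rw [frobenius_def] at hfix
      push_cast at hfix
      rw [eval_sub, hroot, eval_sub, eval_pow, eval_X, hfix, sub_self, sub_zero]

theorem Data.charZero_sep (h : Data p A ζ P) {K : Type u} [Field K] [CharZero K] (f : A →+* K) (hf : Function.Injective f) (ξ : K)
    (hc : 1 + f (1 - ζ) ^ p * ξ ≠ 0) : (P.map f - C ξ).Separable := by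
  set w := f (1 - ζ)
  set c := 1 + w ^ p * ξ with hcdef
  have h1 : C (w ^ p) * P.map f = (1 + C w * X) ^ p - 1 := by
    have := congrArg (Polynomial.map f) h.eq
    rw [Polynomial.map_mul, map_C, map_pow, Polynomial.map_sub, Polynomial.map_pow, Polynomial.map_add, Polynomial.map_one,
      Polynomial.map_mul, map_C, map_X] at this
    exact this
  have hd : C (w ^ p) * derivative (P.map f) = C ((p : K) * w) * (1 + C w * X) ^ (p - 1) := by
    have := congrArg derivative h1
    rw [derivative_C_mul, derivative_sub, derivative_one, sub_zero, derivative_pow, derivative_add, derivative_one, zero_add,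
      derivative_C_mul_X] at this
    rw [this, C_mul]; ring
  have hw : w ≠ 0 := (map_ne_zero_iff f hf).2 h.w_ne
  have hp : (p : K) ≠ 0 := Nat.cast_ne_zero.2 h.prime.ne_zero
  have hpow : (1 + C w * X : K[X]) ^ p = (1 + C w * X) ^ (p - 1) * (1 + C w * X) := by
    rw [← pow_succ, Nat.sub_add_cancel h.prime.one_le]
  rw [separable_def, derivative_sub, derivative_C, sub_zero]
  have key : C ((p : K) * w * c) =
      (-C ((p : K) * w * w ^ p)) * (P.map f - C ξ) + (C (w ^ p) * (1 + C w * X)) * derivative (P.map f) := by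
    rw [mul_right_comm (C (w ^ p)), hd, mul_assoc (C ((p : K) * w)), ← hpow]
    simp only [hcdef, C_mul, C_add, C_pow, C_1] at h1 ⊢
    linear_combination (C (p : K) * C w) * h1
  have hu : IsUnit (C ((p : K) * w * c)) := isUnit_C.2 (IsUnit.mk0 _ (mul_ne_zero (mul_ne_zero hp hw) hc))
  obtain ⟨v, hv⟩ := hu.exists_left_inv
  refine ⟨v * (-C ((p : K) * w * w ^ p)), v * (C (w ^ p) * (1 + C w * X)), ?_⟩
  linear_combination hv - v * key

end KummerStepLib
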